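import Groth.Agent.WittExt.Lazard
import Mathlib.Algebra.CharP.Invertible
import Mathlib.Algebra.MvPolynomial.Polynomial
import Mathlib.RingTheory.PowerSeries.Substitution
import Mathlib.Algebra.BigOperators.Intervals
import Mathlib.Algebra.Polynomial.Degree.Lemmas
import Mathlib.Algebra.CharP.Algebra

/-! Characters of the additive group in characteristic `p` as products of truncated exponentials. -/

set_option autoImplicit false

universe u v

open Finset

namespace Groth.Agent.GaChar

variable (p : ℕ) [hp : Fact p.Prime]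

/-- `∑_{j<p} w^j/j!`. -/
noncomputable def expp {B : Type v} [CommRing B] (w : B) : B :=
  ∑ j ∈ range p, Ring.inverse (j.factorial : B) * w ^ j

variable {A : Type u} [CommRing A] [CharP A p]

lemma fac_unit {j : ℕ} (hj : j < p) : IsUnit (j.factorial : A) :=
  (CharP.isUnit_natCast_iff hp.out).2 fun h => by have := (Nat.Prime.dvd_factorial hp.out).1 h; omega

omit hp in
lemma map_inverse {B : Type v} [CommRing B] (φ : A →+* B) {x : A} (hx : IsUnit x) :
    φ (Ring.inverse x) = Ring.inverse (φ x) := by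
  obtain ⟨u, rfl⟩ := hx
  rw [Ring.inverse_unit]
  exact (Ring.inverse_unit (Units.map (φ : A →* B) u)).symm

lemma map_expp {B : Type v} [CommRing B] (φ : A →+* B) (w : A) : φ (expp p w) = expp p (φ w) := by
  simp only [expp, map_sum, map_mul, map_pow]
  refine sum_congr rfl fun j hj => ?_
  rw [map_inverse φ (fac_unit p (mem_range.1 hj)), map_natCast]

lemma expp_add {B : Type v} [CommRing B] (hu : ∀ j < p, IsUnit (j.factorial : B)) {s t : B}
    (h : ∀ i k, p ≤ i + k → s ^ i * t ^ k = 0) : expp p (s + t) = expp p s * expp p t := by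
  let g : ℕ → ℕ → B := fun i k => Ring.inverse (i.factorial : B) * s ^ i * (Ring.inverse (k.factorial : B) * t ^ k)
  have h2 : expp p (s + t) = ∑ j ∈ range p, ∑ i ∈ range (j + 1), g i (j - i) := by
    refine sum_congr rfl fun j hj => ?_
    rw [add_pow, mul_sum]
    refine sum_congr rfl fun i hi => ?_
    obtain ⟨k, rfl⟩ := Nat.exists_eq_add_of_le (mem_range_succ_iff.1 hi)
    have hj' := mem_range.1 hj
    obtain ⟨a, ha⟩ := hu i (by omega)
    obtain ⟨b, hb⟩ := hu k (by omega)
    obtain ⟨c, hc⟩ := hu (i + k) hj'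
    simp only [g, Nat.add_sub_cancel_left]
    rw [← ha, ← hb, ← hc, Ring.inverse_unit, Ring.inverse_unit, Ring.inverse_unit]
    have e : ((i + k).choose i : B) * a * b = c := by
      rw [ha, hb, hc, ← Nat.cast_mul, ← Nat.cast_mul, Nat.choose_symm_add,
        Nat.add_choose_mul_factorial_mul_factorial]
    linear_combination (s ^ i * t ^ k * ((c⁻¹ : Bˣ) : B) * ((a⁻¹ : Bˣ) : B) * ((b⁻¹ : Bˣ) : B)) * e
      - (s ^ i * t ^ k * ((c⁻¹ : Bˣ) : B) * ((i + k).choose i : B) * (b : B) * ((b⁻¹ : Bˣ) : B)) * a.mul_inv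
      - (s ^ i * t ^ k * ((c⁻¹ : Bˣ) : B) * ((i + k).choose i : B)) * b.mul_inv
      + (s ^ i * t ^ k * ((a⁻¹ : Bˣ) : B) * ((b⁻¹ : Bˣ) : B)) * c.mul_inv
  have h3 : expp p s * expp p t = ∑ i ∈ range p, ∑ k ∈ range (p - i), g i k := by
    rw [expp, expp, sum_mul]
    refine sum_congr rfl fun i hi => ?_
    rw [mul_sum]
    refine (sum_subset (fun k hk => ?_) fun k hk hk' => ?_).symm
    · simp only [mem_range] at hk ⊢; omega
    · simp only [mem_range] at hk hk' hi
      linear_combination (Ring.inverse (i.factorial : B) * Ring.inverse (k.factorial : B)) * h i k (by omega)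
  rw [h2, h3, sum_range_diag_flip]

/-- The factor `exp_p(a X^(p^n))`. -/
noncomputable def factor (a : A) (n : ℕ) : Polynomial A :=
  ∑ j ∈ range p, Polynomial.C (Ring.inverse (j.factorial : A) * a ^ j) * Polynomial.X ^ (j * p ^ n)

omit hp [CharP A p] in
lemma coeff_factor (a : A) (n m : ℕ) :
    (factor p a n).coeff m = ∑ j ∈ range p, if m = j * p ^ n then Ring.inverse (j.factorial : A) * a ^ j else 0 := by
  simp only [factor, Polynomial.finsetSum_coeff, Polynomial.coeff_C_mul_X_pow]

lemma aeval_factor {B : Type v} [CommRing B] [Algebra A B] (a : A) (n : ℕ) (u : B) :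
    Polynomial.aeval u (factor p a n) = expp p (algebraMap A B a * u ^ p ^ n) := by
  simp only [factor, expp, map_sum, map_mul, map_pow, Polynomial.aeval_C, Polynomial.aeval_X]
  refine sum_congr rfl fun j hj => ?_
  rw [map_inverse _ (fac_unit p (mem_range.1 hj)), map_natCast, mul_pow, ← pow_mul, mul_comm j]
  ring

/-- The product of the first `m` factors. -/
noncomputable def prodFactor (a : ℕ → A) (m : ℕ) : Polynomial A := ∏ n ∈ range m, factor p (a n) n

lemma aeval_prod_add {B : Type v} [CommRing B] [Algebra A B] (a : ℕ → A) (ha : ∀ n, a n ^ p = 0) (m : ℕ)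
    (u w : B) : Polynomial.aeval (u + w) (prodFactor p a m) =
      Polynomial.aeval u (prodFactor p a m) * Polynomial.aeval w (prodFactor p a m) := by
  simp only [prodFactor, map_prod, ← prod_mul_distrib]
  refine prod_congr rfl fun n _ => ?_
  simp only [aeval_factor]
  rcases subsingleton_or_nontrivial B with hB | hB
  · exact Subsingleton.elim _ _
  have hu : ∀ j < p, IsUnit (j.factorial : B) := fun j hj => by
    simpa using (fac_unit (A := A) p hj).map (algebraMap A B)
  have h0 : (p : B) = 0 := by rw [← map_natCast (algebraMap A B), CharP.cast_eq_zero, map_zero]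
  have : CharP B p := by
    obtain ⟨q, hq⟩ := CharP.exists B
    rcases (Nat.dvd_prime hp.out).1 ((CharP.cast_eq_zero_iff B q p).1 h0) with rfl | rfl
    · exact absurd rfl (CharP.char_ne_one B 1)
    · exact hq
  rw [add_pow_char_pow, mul_add]
  refine expp_add p hu fun i k hik => ?_
  have : (algebraMap A B (a n)) ^ (i + k) = 0 := by
    rw [← map_pow, ← Nat.add_sub_cancel' hik, pow_add, ha n, zero_mul, map_zero]
  rw [mul_pow, mul_pow, mul_mul_mul_comm, ← pow_add, this, zero_mul]

omit hp [CharP A p] in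
lemma natDegree_prodFactor_lt (hp1 : 1 ≤ p) (a : ℕ → A) (m : ℕ) : (prodFactor p a m).natDegree < p ^ m := by
  induction m with
  | zero => simp [prodFactor]
  | succ m ih =>
    rw [prodFactor, prod_range_succ]
    have hle : (factor p (a m) m).natDegree ≤ (p - 1) * p ^ m := by
      refine Polynomial.natDegree_sum_le_of_forall_le _ _ fun j hj => ?_
      refine (Polynomial.natDegree_C_mul_X_pow_le _ _).trans ?_
      exact Nat.mul_le_mul_right _ (by have := mem_range.1 hj; omega)
    refine lt_of_le_of_lt Polynomial.natDegree_mul_le ?_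
    obtain ⟨q, rfl⟩ : ∃ q, p = q + 1 := ⟨p - 1, by omega⟩
    rw [prodFactor] at ih
    rw [pow_succ]
    simp only [Nat.add_sub_cancel] at hle
    nlinarith

lemma choose_block (j : ℕ) : ∀ (m r : ℕ), r < p ^ m → ((j * p ^ m + r).choose r : A) = 1
  | 0, r, hr => by
    obtain rfl : r = 0 := by simpa using hr
    simp
  | m + 1, r, hr => by
    have h1 : (j * p ^ (m + 1) + r) % p = r % p := by
      rw [pow_succ, ← mul_assoc, Nat.add_comm, Nat.add_mul_mod_self_right]
    have h2 : (j * p ^ (m + 1) + r) / p = j * p ^ m + r / p := by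
      rw [pow_succ, ← mul_assoc, Nat.add_comm, Nat.add_mul_div_right _ _ hp.out.pos, Nat.add_comm]
    have h3 := (CharP.natCast_eq_natCast A p).2
      (Choose.choose_modEq_choose_mod_mul_choose_div_nat (p := p) (n := j * p ^ (m + 1) + r) (k := r))
    rw [h1, h2, Nat.choose_self, one_mul] at h3
    rw [h3]
    exact choose_block j m (r / p) (Nat.div_lt_of_lt_mul (by rwa [← pow_succ']))

lemma choose_add_pow (k n : ℕ) : ((k * p ^ n + p ^ n).choose (k * p ^ n) : A) = k + 1 := by
  rw [Nat.choose_symm_add, ← Nat.cast_one, ← Nat.cast_add, CharP.natCast_eq_natCast A p]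
  have := Groth.Agent.WittExt.Lazard.choose_pow_modEq (p := p) n (k * p ^ n + p ^ n)
  rwa [← Nat.succ_mul, Nat.mul_div_cancel _ (pow_pos hp.out.pos n), Nat.succ_mul] at this

/-- The coefficient identity up to `p^m`. -/
def IsCharUpTo (c : ℕ → A) (M : ℕ) : Prop :=
  c 0 = 1 ∧ ∀ i j, i < M → j < M → ((i + j).choose i : A) * c (i + j) = c i * c j

lemma IsCharUpTo.mul_pow {c : ℕ → A} {m : ℕ} (h : IsCharUpTo c (p ^ m)) {n : ℕ} (hn : n < m) :
    ∀ k ≤ p, (k.factorial : A) * c (k * p ^ n) = c (p ^ n) ^ k
  | 0, _ => by simp [h.1]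
  | k + 1, hk => by
    have hlt : p ^ n < p ^ m := Nat.pow_lt_pow_right hp.out.one_lt hn
    have hklt : k * p ^ n < p ^ m := lt_of_lt_of_le
      (Nat.mul_lt_mul_of_pos_right (show k < p by omega) (pow_pos hp.out.pos n))
      (by rw [← pow_succ']; exact Nat.pow_le_pow_right hp.out.pos hn)
    have e := h.2 _ _ hklt hlt
    rw [choose_add_pow] at e
    rw [Nat.factorial_succ, pow_succ, ← h.mul_pow hn k (by omega)]
    push_cast
    rw [show (k + 1) * p ^ n = k * p ^ n + p ^ n from Nat.succ_mul k _]
    linear_combination (k.factorial : A) * e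

lemma IsCharUpTo.pow_eq_zero {c : ℕ → A} {m : ℕ} (h : IsCharUpTo c (p ^ m)) {n : ℕ} (hn : n < m) :
    c (p ^ n) ^ p = 0 := by
  rw [← h.mul_pow p hn p le_rfl, (CharP.cast_eq_zero_iff A p _).2 (Nat.dvd_factorial hp.out.pos le_rfl), zero_mul]

/-- The structure of characters. -/
lemma IsCharUpTo.coeff_eq {c : ℕ → A} {m : ℕ} (h : IsCharUpTo c (p ^ m)) :
    ∀ m' ≤ m, ∀ N < p ^ m', (prodFactor p (fun n => c (p ^ n)) m').coeff N = c N
  | 0, _, N, hN => by
    obtain rfl : N = 0 := by simpa using hN
    simp [prodFactor, h.1]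
  | m' + 1, hm', N, hN => by
    have ih := h.coeff_eq m' (by omega)
    set q := p ^ m' with hq
    have hq0 : 0 < q := pow_pos hp.out.pos _
    have hjp : N / q < p := Nat.div_lt_of_lt_mul (by rwa [mul_comm, hq, ← pow_succ'])
    have hr : N % q < q := Nat.mod_lt _ hq0
    rw [prodFactor, prod_range_succ, factor, mul_sum, Polynomial.finsetSum_coeff,
      sum_eq_single_of_mem (N / q) (mem_range.2 hjp)]
    · rw [← mul_assoc, Polynomial.coeff_mul_X_pow', if_pos (Nat.div_mul_le_self N q), Polynomial.coeff_mul_C,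
        ← hq, ← Nat.mod_eq_sub_div_mul, ← prodFactor, ih _ hr]
      have hlt : N / q * q < p ^ m := lt_of_lt_of_le (lt_of_le_of_lt (Nat.div_mul_le_self N q) hN)
        (Nat.pow_le_pow_right hp.out.pos hm')
      have hrlt : N % q < p ^ m := lt_of_lt_of_le hr (Nat.pow_le_pow_right hp.out.pos (by omega))
      have e := h.2 _ _ hlt hrlt
      rw [Nat.choose_symm_add, hq, choose_block p _ _ _ hr, one_mul, ← hq, Nat.div_add_mod'] at e
      rw [e, ← h.mul_pow p (show m' < m by omega) _ hjp.le, ← mul_assoc (Ring.inverse _),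
        Ring.inverse_mul_cancel _ (fac_unit p hjp), one_mul, mul_comm]
    · intro j hj hne
      rw [← mul_assoc, Polynomial.coeff_mul_X_pow']
      split_ifs with hle
      · rw [Polynomial.coeff_mul_C]
        have hd : ((prodFactor p (fun n => c (p ^ n)) m').coeff (N - j * p ^ m')) = 0 := by
          refine Polynomial.coeff_eq_zero_of_natDegree_lt (lt_of_lt_of_le (natDegree_prodFactor_lt p hp.out.pos _ _) ?_)
          by_contra hlt
          refine hne ?_
          symm
          rw [Nat.div_eq_of_lt_le (by rwa [hq]) (by rw [hq] at *; rw [Nat.succ_mul] at *; omega)]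
        rw [← prodFactor, hd, zero_mul]
      · rfl

lemma IsCharUpTo.trunc_eq {c : ℕ → A} {m : ℕ} (h : IsCharUpTo c (p ^ m)) (f : Polynomial A)
    (hf : f.natDegree < p ^ m) (hc : ∀ N, N < p ^ m → f.coeff N = c N) :
    f = prodFactor p (fun n => c (p ^ n)) m := by
  ext N
  by_cases hN : N < p ^ m
  · rw [hc N hN, h.coeff_eq p m le_rfl N hN]
  · rw [Polynomial.coeff_eq_zero_of_natDegree_lt (by omega),
      Polynomial.coeff_eq_zero_of_natDegree_lt (lt_of_lt_of_le (natDegree_prodFactor_lt p hp.out.pos _ _) (by omega))]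

section identity

variable {R : Type u} [CommRing R]

open PowerSeries in
lemma coeff_aeval_add (f : Polynomial R) (e : Fin 2 →₀ ℕ) :
    (Polynomial.aeval (MvPolynomial.X 0 + MvPolynomial.X 1 : MvPolynomial (Fin 2) R) f).coeff e =
      ((e 0 + e 1).choose (e 0) : R) * f.coeff (e 0 + e 1) := by
  have h := coeff_subst_X_zero_add_X_one (f : PowerSeries R) e
  rw [Polynomial.coeff_coe, subst_coe (HasSubst.of_constantCoeff_zero (by simp))] at h
  have := Polynomial.aeval_algHom_apply (MvPolynomial.coeToMvPowerSeries.algHom R)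
    (MvPolynomial.X 0 + MvPolynomial.X 1 : MvPolynomial (Fin 2) R) f
  simp only [MvPolynomial.coeToMvPowerSeries.algHom_apply, Algebra.algebraMap_self, MvPowerSeries.map_id,
    RingHom.id_apply, MvPolynomial.coe_add, MvPolynomial.coe_X] at this
  rw [this, MvPolynomial.coeff_coe] at h
  exact h

open PowerSeries in
lemma coeff_aeval_mul (f : Polynomial R) (e : Fin 2 →₀ ℕ) :
    (Polynomial.aeval (MvPolynomial.X 0 : MvPolynomial (Fin 2) R) f *
      Polynomial.aeval (MvPolynomial.X 1 : MvPolynomial (Fin 2) R) f).coeff e = f.coeff (e 0) * f.coeff (e 1) := by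
  have h := coeff_subst_X_zero_subst_mul_X_one (f : PowerSeries R) e
  rw [Polynomial.coeff_coe, Polynomial.coeff_coe, subst_coe (HasSubst.of_constantCoeff_zero (by simp)),
    subst_coe (HasSubst.of_constantCoeff_zero (by simp))] at h
  have h0 := Polynomial.aeval_algHom_apply (MvPolynomial.coeToMvPowerSeries.algHom R)
    (MvPolynomial.X 0 : MvPolynomial (Fin 2) R) f
  have h1 := Polynomial.aeval_algHom_apply (MvPolynomial.coeToMvPowerSeries.algHom R)
    (MvPolynomial.X 1 : MvPolynomial (Fin 2) R) f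
  simp only [MvPolynomial.coeToMvPowerSeries.algHom_apply, Algebra.algebraMap_self, MvPowerSeries.map_id,
    RingHom.id_apply, MvPolynomial.coe_X] at h0 h1
  rw [h0, h1, ← MvPolynomial.coe_mul, MvPolynomial.coeff_coe] at h
  exact h

lemma identity_iff (f : Polynomial R) :
    Polynomial.aeval (MvPolynomial.X 0 + MvPolynomial.X 1 : MvPolynomial (Fin 2) R) f =
        Polynomial.aeval (MvPolynomial.X 0 : MvPolynomial (Fin 2) R) f *
          Polynomial.aeval (MvPolynomial.X 1 : MvPolynomial (Fin 2) R) f ↔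
      ∀ i j : ℕ, ((i + j).choose i : R) * f.coeff (i + j) = f.coeff i * f.coeff j := by
  rw [MvPolynomial.ext_iff]
  constructor
  · intro h i j
    have := h (Finsupp.single 0 i + Finsupp.single 1 j)
    rw [coeff_aeval_add, coeff_aeval_mul] at this
    simpa using this
  · intro h e
    rw [coeff_aeval_add, coeff_aeval_mul]
    exact h _ _

end identity

lemma prodFactor_identity (a : ℕ → A) (ha : ∀ n, a n ^ p = 0) (m : ℕ) :
    ∀ i j : ℕ, ((i + j).choose i : A) * (prodFactor p a m).coeff (i + j) =
      (prodFactor p a m).coeff i * (prodFactor p a m).coeff j :=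
  (identity_iff _).1 (aeval_prod_add p a ha m _ _)

omit [CharP A p] in
lemma prodFactor_coeff_zero (a : ℕ → A) (m : ℕ) : (prodFactor p a m).coeff 0 = 1 := by
  rw [prodFactor, Polynomial.coeff_zero_prod]
  refine prod_eq_one fun n _ => ?_
  rw [coeff_factor, sum_eq_single_of_mem 0 (mem_range.2 hp.out.pos)]
  · simp
  · intro j _ hj
    rw [if_neg]
    exact (Nat.mul_ne_zero hj (pow_ne_zero _ hp.out.ne_zero)).symm

end Groth.Agent.GaChar
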